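import Cfsg.Agent.H874.F43.Sl4
import Cfsg.Agent.H194.Pw.Six
import Cfsg.Agent.H537.Pw.WCFour

/-!
# `F₄(3)`: the long `A₃` subsystem `-θ, α₁, α₂` (helper874, for S2465, piece (U4))

Roots of `chevF4` (nodes `0, 1` short, `2, 3` long): `α₁ = 24 = sr 3`, `α₂ = 25 = sr 2`, `α₁ + α₂ = 26`, `θ = 47`,
`-θ = 0`, `-θ + α₁ = 1`, `-θ + α₁ + α₂ = 2`.

* `pi4` : `SL₄(K) →* F₄(K)`, `E₀₁ = -θ`, `E₁₂ = α₁`, `E₂₃ = α₂`.
* `pr_fix` : `|K| = 3`: `pi4 M` is a product of two elements of order prime to 6 if `M` fixes a nonzero (row) vector.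
* `pr_U4`, `pr_U4'` : `x_{α₂}(c) x_θ(d)` is such a product.
* `pr_aff`, `pr_aff'`, `pr_sl3` : every element of `3³:SL₃(3)`, `SL₃(3)`.
-/

set_option autoImplicit false

namespace Cfsg.Agent.H874.F43

open Cfsg.Lie Cfsg.Agent.ChevalleyStructure Cfsg.Agent.ChevalleyStructure.Elts
  Cfsg.Agent.ChevalleyStructure.CoxeterGeom Cfsg.Agent.ChevalleyStructure.CoxeterGeomTypes
  Cfsg.Agent.Nodes.RGDChev Cfsg.Agent.KFacts.RgdChevCoord Cfsg.Agent.H537.Pw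
  Cfsg.Agent.TitsThree.KExcRT Cfsg.Agent.H78.Pw
  Cfsg.Agent.Nodes.KindChev Cfsg.Agent.Nodes.ChevCls Cfsg.Agent.OddHalf.NI.ModelChev
open Cfsg.Agent.H194.Pw (exists_hom_S)
open Matrix (SpecialLinearGroup)
open scoped Matrix
open Cfsg.Agent.Tits.Roots Cfsg.Agent.Tits.Core

universe u

/-- the roots of the long `A₃` subsystem -/
def r4 : Fin 4 → Fin 4 → ℕ := ![![0, 0, 1, 2], ![47, 0, 24, 26], ![46, 23, 0, 25], ![45, 21, 22, 0]]

def s4 : Fin 4 → Fin 4 → ℤ := fun _ _ => 1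

theorem rt4 : RTa chevF4 r4 ∧ RTb chevF4 r4 s4 ∧ RTc chevF4 r4 ∧ RTd s4 ∧ (∀ i j, s4 j i = s4 i j) ∧
    (∀ i j, i ≠ j → r4 j i = chevF4.neg (r4 i j)) := by
  refine ⟨by decide +kernel, by decide +kernel, by decide +kernel, by decide +kernel, by decide +kernel,
    by decide +kernel⟩

section

variable (K : Type u) [Field K]

theorem exists_pi4 : ∃ φ : SpecialLinearGroup (Fin 4) K →* ↥(chevF4.group K), ∀ a b (hab : a ≠ b) c,
    φ (SpecialLinearGroup.transvection hab c) = xc isType_F4 (vec chevF4 4 (r4 a b)) c := by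
  obtain ⟨φ, hφ⟩ := exists_hom_S isType_F4 (K := K) rt4.1 rt4.2.1 rt4.2.2.1 rt4.2.2.2.1 rt4.2.2.2.2.1 rt4.2.2.2.2.2
  refine ⟨φ, fun a b hab c => ?_⟩
  rw [hφ a b hab c]
  show xc isType_F4 (vec chevF4 4 (r4 a b)) (((1 : ℤ) : K) * c) = _
  rw [Int.cast_one, one_mul]

/-- the homomorphism of the long `A₃` subsystem -/
noncomputable def pi4 : SpecialLinearGroup (Fin 4) K →* ↥(chevF4.group K) := (exists_pi4 K).choose

theorem pi4_tv (a b : Fin 4) (hab : a ≠ b) (c : K) :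
    pi4 K (SpecialLinearGroup.transvection hab c) = xc isType_F4 (vec chevF4 4 (r4 a b)) c :=
  (exists_pi4 K).choose_spec a b hab c

end

section

variable {K : Type u} [Field K]

/-- the stabiliser of a vector -/
def fixV (v : Fin 4 → K) : Subgroup (SpecialLinearGroup (Fin 4) K) where
  carrier := {M | M.1 *ᵥ v = v}
  mul_mem' {a b} ha hb := by
    show (a.1 * b.1) *ᵥ v = v
    rw [← Matrix.mulVec_mulVec, show b.1 *ᵥ v = v from hb, show a.1 *ᵥ v = v from ha]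
  one_mem' := Matrix.one_mulVec v
  inv_mem' {a} ha := by
    have h1 : (a⁻¹).1 *ᵥ (a.1 *ᵥ v) = v := by
      rw [Matrix.mulVec_mulVec]
      have h2 : (a⁻¹).1 * a.1 = 1 := congrArg Subtype.val (inv_mul_cancel a)
      rw [h2, Matrix.one_mulVec]
    rwa [show a.1 *ᵥ v = v from ha] at h1

/-- the stabiliser of a row vector -/
def fixR (v : Fin 4 → K) : Subgroup (SpecialLinearGroup (Fin 4) K) where
  carrier := {M | v ᵥ* M.1 = v}
  mul_mem' {a b} ha hb := by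
    show v ᵥ* (a.1 * b.1) = v
    rw [← Matrix.vecMul_vecMul, show v ᵥ* a.1 = v from ha, show v ᵥ* b.1 = v from hb]
  one_mem' := Matrix.vecMul_one v
  inv_mem' {a} ha := by
    have h1 : (v ᵥ* a.1) ᵥ* (a⁻¹).1 = v := by
      rw [Matrix.vecMul_vecMul]
      have h2 : a.1 * (a⁻¹).1 = 1 := congrArg Subtype.val (mul_inv_cancel a)
      rw [h2, Matrix.vecMul_one]
    rwa [show v ᵥ* a.1 = v from ha] at h1

theorem tv_mem_fixV {a b : Fin 4} (hab : a ≠ b) (c : K) {v : Fin 4 → K} (h : v b = 0) :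
    SpecialLinearGroup.transvection hab c ∈ fixV v := by
  show (Matrix.transvection a b c) *ᵥ v = v
  rw [Matrix.transvection, Matrix.add_mulVec, Matrix.one_mulVec, Matrix.single_mulVec, h, mul_zero]
  ext i
  simp

theorem tv_mem_fixR {a b : Fin 4} (hab : a ≠ b) (c : K) {v : Fin 4 → K} (h : v a = 0) :
    SpecialLinearGroup.transvection hab c ∈ fixR v := by
  show v ᵥ* (Matrix.transvection a b c) = v
  rw [Matrix.transvection, Matrix.vecMul_add, Matrix.vecMul_one, ← Matrix.mulVec_transpose, Matrix.transpose_single,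
    Matrix.single_mulVec, h, mul_zero]
  ext i
  simp

/-- **elements with a fixed vector** -/
theorem pr_fix [Finite K] (hK : Nat.card K = 3) {v : Fin 4 → K} (hv : v ≠ 0) {g : ↥(chevF4.group K)}
    (hg : g ∈ (fixV v).map (pi4 K) ∨ g ∈ (fixR v).map (pi4 K)) :
    ∃ a b : ↥(chevF4.group K), g = a * b ∧ a ^ 13 = 1 ∧ b ^ 13 = 1 := by
  obtain ⟨M, hM, rfl⟩ : ∃ M : SpecialLinearGroup (Fin 4) K, (M.1 *ᵥ v = v ∨ v ᵥ* M.1 = v) ∧ pi4 K M = g := by
    rcases hg with ⟨M, hM, hMg⟩ | ⟨M, hM, hMg⟩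
    · exact ⟨M, Or.inl hM, hMg⟩
    · exact ⟨M, Or.inr hM, hMg⟩
  obtain ⟨a, b, rfl, ha, hb⟩ := sl4_of_fix hK M hv hM
  exact ⟨pi4 K a, pi4 K b, map_mul _ _ _, by rw [← map_pow, ha, map_one], by rw [← map_pow, hb, map_one]⟩

theorem X_le_fixV {a b : Fin 4} (hab : a ≠ b) {v : Fin 4 → K} (h : v b = 0) :
    XX chevF4 4 K (vec chevF4 4 (r4 a b)) ≤ (fixV v).map (pi4 K) := by
  intro y hy
  obtain ⟨c, rfl⟩ := (mem_XX isType_F4 (rt4.1 a b hab) y).1 hy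
  exact ⟨_, tv_mem_fixV hab c h, pi4_tv K a b hab c⟩

theorem X_le_fixR {a b : Fin 4} (hab : a ≠ b) {v : Fin 4 → K} (h : v a = 0) :
    XX chevF4 4 K (vec chevF4 4 (r4 a b)) ≤ (fixR v).map (pi4 K) := by
  intro y hy
  obtain ⟨c, rfl⟩ := (mem_XX isType_F4 (rt4.1 a b hab) y).1 hy
  exact ⟨_, tv_mem_fixR hab c h, pi4_tv K a b hab c⟩

/-- **(U4)** -/
theorem thirteen_U4 [Finite K] (hK : Nat.card K = 3) (c d : K) :
    ∃ a b : ↥(chevF4.group K), xc isType_F4 (vec chevF4 4 25) c * xc isType_F4 (vec chevF4 4 47) d = a * b ∧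
      a ^ 13 = 1 ∧ b ^ 13 = 1 := by
  refine pr_fix hK (v := Pi.single 1 1) (by simp) (Or.inl (Subgroup.mul_mem _ ?_ ?_))
  · exact X_le_fixV (a := 2) (b := 3) (by decide) (by simp) ((mem_XX isType_F4 (by decide) _).2 ⟨c, rfl⟩)
  · exact X_le_fixV (a := 1) (b := 0) (by decide) (by simp) ((mem_XX isType_F4 (by decide) _).2 ⟨d, rfl⟩)

theorem pr_U4 [Finite K] (hK : Nat.card K = 3) (c d : K) :
    Pr 6 (xc isType_F4 (vec chevF4 4 25) c * xc isType_F4 (vec chevF4 4 47) d) :=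
  pr_of_thirteen (thirteen_U4 hK c d)

/-- the highest root -/
theorem vec_theta : vec chevF4 4 47 = ![2, 4, 3, 2] := by decide +kernel

theorem vec_two : vec chevF4 4 25 = sr 2 := by
  rw [← vec_simple isType_F4 2]
  exact congrArg _ (by decide +kernel)

theorem vec_three : vec chevF4 4 24 = sr 3 := by
  rw [← vec_simple isType_F4 3]
  exact congrArg _ (by decide +kernel)

theorem pr_U4' [Finite K] (hK : Nat.card K = 3) {x y : ↥(chevF4.group K)} (hx : x ∈ XX chevF4 4 K (sr 2))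
    (hy : y ∈ XX chevF4 4 K (vec chevF4 4 47)) : Pr 6 (x * y) := by
  rw [← vec_two] at hx
  obtain ⟨c, rfl⟩ := (mem_XX isType_F4 (by decide) _).1 hx
  obtain ⟨d, rfl⟩ := (mem_XX isType_F4 (by decide) _).1 hy
  exact pr_U4 hK c d

/-- `3³:SL₃(3)`, generated by the root groups `±α₁`, `±α₂`, `-θ`, `-θ + α₁`, `-θ + α₁ + α₂` -/
theorem pr_aff [Finite K] (hK : Nat.card K = 3) {g : ↥(chevF4.group K)}
    (hg : g ∈ ⨆ p : {p : Fin 4 × Fin 4 // p.1 ≠ p.2 ∧ p.2 ≠ 0}, XX chevF4 4 K (vec chevF4 4 (r4 p.1.1 p.1.2))) :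
    Pr 6 g := by
  refine pr_of_thirteen (pr_fix hK (v := Pi.single 0 1) (by simp) (Or.inl ?_))
  refine (iSup_le ?_ : _ ≤ (fixV (Pi.single 0 1 : Fin 4 → K)).map (pi4 K)) hg
  rintro ⟨⟨a, b⟩, hab, hb⟩
  exact X_le_fixV hab (Pi.single_eq_of_ne hb _)

/-- `3³:SL₃(3)`, generated by the root groups `±α₁`, `±α₂`, `θ`, `θ - α₁`, `θ - α₁ - α₂` -/
theorem pr_aff' [Finite K] (hK : Nat.card K = 3) {g : ↥(chevF4.group K)}
    (hg : g ∈ ⨆ p : {p : Fin 4 × Fin 4 // p.1 ≠ p.2 ∧ p.1 ≠ 0}, XX chevF4 4 K (vec chevF4 4 (r4 p.1.1 p.1.2))) :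
    Pr 6 g := by
  refine pr_of_thirteen (pr_fix hK (v := Pi.single 0 1) (by simp) (Or.inr ?_))
  refine (iSup_le ?_ : _ ≤ (fixR (Pi.single 0 1 : Fin 4 → K)).map (pi4 K)) hg
  rintro ⟨⟨a, b⟩, hab, ha⟩
  exact X_le_fixR hab (Pi.single_eq_of_ne ha _)

/-- `SL₃(3)`, root groups `±θ`, `±α₁` -/
theorem pr_sl3 [Finite K] (hK : Nat.card K = 3) {g : ↥(chevF4.group K)}
    (hg : g ∈ XX chevF4 4 K (vec chevF4 4 47) ⊔ XX chevF4 4 K (vec chevF4 4 0) ⊔
      (XX chevF4 4 K (vec chevF4 4 24) ⊔ XX chevF4 4 K (vec chevF4 4 23))) : Pr 6 g := by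
  refine pr_of_thirteen (pr_fix hK (v := Pi.single 3 1) (by simp) (Or.inl ?_))
  refine (sup_le (sup_le ?_ ?_) (sup_le ?_ ?_) : _ ≤ (fixV (Pi.single 3 1 : Fin 4 → K)).map (pi4 K)) hg
  · exact X_le_fixV (a := 1) (b := 0) (by decide) (by simp)
  · exact X_le_fixV (a := 0) (b := 1) (by decide) (by simp)
  · exact X_le_fixV (a := 1) (b := 2) (by decide) (by simp)
  · exact X_le_fixV (a := 2) (b := 1) (by decide) (by simp)

/-- `SL₂(3)` of the highest root -/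
theorem pr_sl2 [Finite K] (hK : Nat.card K = 3) {g : ↥(chevF4.group K)}
    (hg : g ∈ XX chevF4 4 K (vec chevF4 4 47) ⊔ XX chevF4 4 K (vec chevF4 4 0)) : Pr 6 g :=
  pr_sl3 hK (le_sup_left (a := _) (b := (XX chevF4 4 K (vec chevF4 4 24) ⊔ XX chevF4 4 K (vec chevF4 4 23))) hg)

end

end Cfsg.Agent.H874.F43
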