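import Cfsg.Agent.H874.F43.U4
import Cfsg.Agent.H701.F43.Cent
import Cfsg.Agent.H150.F43.DichA

/-!
# `F₄(3)`: the elements of `C(z)` with image `-1` (helper874, for S2465, piece E2)

* `exists_conj_inv` : `t ² = 1`, `t` normalises the 3-group `Q`, `s ∈ t Q` of order prime to 3: `s = r⁻¹ t r`, `r ∈ ⟨t⁻¹ s⟩`.
* `tt2` : `h_θ(-1)`; `tt2_mem`, `tt2_sq`, `tt2_act`, `tt2_eq` (it is `H150.F43.t2`).
* `pr_E2` : `Pr 6 (s w)` for `s ∈ t Q` of order prime to 3, `w ∈ X_θ` commuting with `s` and `t`, `t ∈ ⟨X_θ, X_{-θ}⟩`, `t ² = 1`.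
* `pr_E2'` : `t = h_θ(-1)`, `Q = V_J`.
-/

set_option autoImplicit false

namespace Cfsg.Agent.H874.F43

open Cfsg.Lie Cfsg.Agent.ChevalleyStructure Cfsg.Agent.ChevalleyStructure.Elts
  Cfsg.Agent.ChevalleyStructure.CoxeterGeom Cfsg.Agent.ChevalleyStructure.CoxeterGeomTypes
  Cfsg.Agent.ChevalleyStructure.HMatDiagAll
  Cfsg.Agent.Nodes.RGDChev Cfsg.Agent.KFacts.RgdChevCoord Cfsg.Agent.H537.Pw
  Cfsg.Agent.TitsThree.KExcRT Cfsg.Agent.H78.Pw
  Cfsg.Agent.Nodes.KindChev Cfsg.Agent.Nodes.ChevCls Cfsg.Agent.OddHalf.NI.ModelChev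
open Cfsg.Agent.Tits.Roots Cfsg.Agent.Tits.Core Cfsg.Agent.Nodes.LeviDec
open Cfsg.Agent.H701.F43.Cent (VV MM cF J3)

universe u

/-! ### The conjugacy -/

theorem exists_conj_inv {G : Type*} [Group G] {Q : Subgroup G} (hQ : IsPGroup 3 Q) {t s : G} (ht : t * t = 1)
    (hn : ∀ x ∈ Q, t * x * t⁻¹ ∈ Q) (hs : t⁻¹ * s ∈ Q) {m : ℕ} (hm : s ^ m = 1) (hc : m.Coprime 3) :
    ∃ r ∈ Subgroup.zpowers (t⁻¹ * s), r⁻¹ * t * r = s := by
  obtain ⟨q, hq⟩ : ∃ q, q = t⁻¹ * s := ⟨_, rfl⟩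
  rw [← hq] at hs ⊢
  have hsq : s = t * q := by rw [hq, mul_inv_cancel_left]
  have hti : t⁻¹ = t := inv_eq_of_mul_eq_one_left ht
  have hs2 : s * s ∈ Q := by
    have e : s * s = (t * q * t⁻¹) * q := by
      rw [hsq, hti]
      simp only [mul_assoc]
    rw [e]
    exact Q.mul_mem (hn q hs) hs
  obtain ⟨k, hk⟩ := hQ ⟨s * s, hs2⟩
  have hk' : (s * s) ^ 3 ^ k = 1 := congrArg Subtype.val hk
  have hs1 : s * s = 1 := by
    have h1 : orderOf (s * s) ∣ 3 ^ k := orderOf_dvd_of_pow_eq_one hk'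
    have h2 : orderOf (s * s) ∣ m := by
      refine orderOf_dvd_of_pow_eq_one ?_
      rw [← pow_two, ← pow_mul, mul_comm, pow_mul, hm, one_pow]
    have h3 : orderOf (s * s) = 1 := Nat.eq_one_of_dvd_coprimes (hc.pow_right k) h2 h1
    exact orderOf_eq_one_iff.1 h3
  -- `t` inverts `q`
  have hinv : t * q * t⁻¹ = q⁻¹ := by
    rw [hti, eq_inv_iff_mul_eq_one]
    rw [hsq] at hs1
    simpa only [mul_assoc] using hs1
  obtain ⟨j, hj⟩ := hQ ⟨q, hs⟩
  have hj' : q ^ 3 ^ j = 1 := congrArg Subtype.val hj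
  obtain ⟨n, hn2⟩ : ∃ n, 3 ^ j + 1 = 2 * n := by
    have h1 : Odd (3 ^ j) := Odd.pow (by decide)
    obtain ⟨a, ha⟩ := h1
    exact ⟨a + 1, by omega⟩
  have hr2 : q ^ n * q ^ n = q := by
    rw [← pow_add, ← two_mul, ← hn2, pow_succ, hj', one_mul]
  have hinv' : t * q ^ n * t⁻¹ = (q ^ n)⁻¹ := by
    rw [← inv_pow, ← hinv, conj_pow]
  refine ⟨q ^ n, Subgroup.pow_mem _ (Subgroup.mem_zpowers q) n, ?_⟩
  have h4 : (q ^ n)⁻¹ * t = t * q ^ n := by
    rw [← hinv', inv_mul_cancel_right]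
  rw [h4, mul_assoc, hr2, ← hsq]

section

variable {K : Type u} [Field K]

/-- **E2**, general form -/
theorem pr_E2 [Finite K] (hK : Nat.card K = 3) {Q : Subgroup ↥(chevF4.group K)} (hQ : IsPGroup 3 Q)
    {t s w : ↥(chevF4.group K)} (ht : t * t = 1)
    (htm : t ∈ XX chevF4 4 K (vec chevF4 4 47) ⊔ XX chevF4 4 K (vec chevF4 4 0))
    (hn : ∀ x ∈ Q, t * x * t⁻¹ ∈ Q) (hs : t⁻¹ * s ∈ Q) {m : ℕ} (hm : s ^ m = 1) (hc : m.Coprime 3)
    (hw : w ∈ XX chevF4 4 K (vec chevF4 4 47)) (hwt : t * w = w * t) (hws : s * w = w * s) : Pr 6 (s * w) := by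
  obtain ⟨r, hr, hrs⟩ := exists_conj_inv hQ ht hn hs hm hc
  have hrw : r * w = w * r := by
    have h1 : t⁻¹ * s * w = w * (t⁻¹ * s) := by
      have h2 : t⁻¹ * w = w * t⁻¹ := by
        rw [inv_mul_eq_iff_eq_mul, ← mul_assoc, hwt, mul_inv_cancel_right]
      rw [mul_assoc, hws, ← mul_assoc, h2, mul_assoc]
    have h3 : Subgroup.zpowers (t⁻¹ * s) ≤ Subgroup.centralizer {w} := by
      rw [Subgroup.zpowers_le, Subgroup.mem_centralizer_singleton_iff]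
      exact h1
    exact Subgroup.mem_centralizer_singleton_iff.1 (h3 hr)
  have h5 : r⁻¹ * (t * w) * r⁻¹⁻¹ = s * w := by
    rw [inv_inv, ← hrs]
    calc r⁻¹ * (t * w) * r = r⁻¹ * t * (w * r) := by simp only [mul_assoc]
      _ = r⁻¹ * t * (r * w) := by rw [hrw]
      _ = r⁻¹ * t * r * w := by simp only [mul_assoc]
  rw [← h5]
  exact (pr_sl2 hK (Subgroup.mul_mem _ htm (le_sup_left (a := XX chevF4 4 K (vec chevF4 4 47)) hw))).conj _

/-! ### `h_θ(-1)` -/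

/-- `h_θ(-1)` -/
noncomputable def tt2 (K : Type u) [Field K] : ↥(chevF4.group K) :=
  ⟨hG isType_F4.inList 47 (-1), hG_mem_group isType_F4.inList _ _⟩

theorem lt47 : 47 < chevF4.nroots := by decide

theorem x47_mem (c : K) : (⟨xG isType_F4.inList 47 c, xG_mem_group isType_F4.inList _ _⟩ : ↥(chevF4.group K)) ∈
    XX chevF4 4 K (vec chevF4 4 47) :=
  (mem_XX isType_F4 lt47 _).2 ⟨c, Subtype.ext (coe_xc isType_F4 lt47 c).symm⟩

theorem x0_mem (c : K) : (⟨xG isType_F4.inList 0 c, xG_mem_group isType_F4.inList _ _⟩ : ↥(chevF4.group K)) ∈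
    XX chevF4 4 K (vec chevF4 4 0) :=
  (mem_XX isType_F4 (by decide) _).2 ⟨c, Subtype.ext (coe_xc isType_F4 (by decide) c).symm⟩

theorem tt2_mem : tt2 K ∈ XX chevF4 4 K (vec chevF4 4 47) ⊔ XX chevF4 4 K (vec chevF4 4 0) := by
  have h1 : ∀ c : K, (⟨nG isType_F4.inList 47 c, nG_mem_group isType_F4.inList _ _⟩ : ↥(chevF4.group K)) ∈
      XX chevF4 4 K (vec chevF4 4 47) ⊔ XX chevF4 4 K (vec chevF4 4 0) := by
    intro c
    have e : (⟨nG isType_F4.inList 47 c, nG_mem_group isType_F4.inList _ _⟩ : ↥(chevF4.group K)) =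
        ⟨xG isType_F4.inList 47 c, xG_mem_group isType_F4.inList _ _⟩ *
          (⟨xG isType_F4.inList 0 (-c⁻¹), xG_mem_group isType_F4.inList _ _⟩ *
            ⟨xG isType_F4.inList 47 c, xG_mem_group isType_F4.inList _ _⟩) := Subtype.ext (nG_def _ 47 c)
    rw [e]
    exact Subgroup.mul_mem _ (Subgroup.mem_sup_left (x47_mem c))
      (Subgroup.mul_mem _ (Subgroup.mem_sup_right (x0_mem _)) (Subgroup.mem_sup_left (x47_mem c)))
  have e : tt2 K = ⟨nG isType_F4.inList 47 (-1), nG_mem_group isType_F4.inList _ _⟩ *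
      ⟨nG isType_F4.inList 47 (-1), nG_mem_group isType_F4.inList _ _⟩ := Subtype.ext (hG_def _ 47 (-1))
  rw [e]
  exact Subgroup.mul_mem _ (h1 _) (h1 _)

theorem coe_tt2 : ((tt2 K : GL chevF4.Idx K) : Matrix chevF4.Idx chevF4.Idx K) =
    Matrix.diagonal (Sum.elim (fun _ => (1 : K)) (fun s : Fin chevF4.nroots => (-1 : K) ^ expo chevF4 47 s.val)) :=
  (coe_hG _ _ _).trans (hMat_eq_diagonal isType_F4.inList lt47 (neg_ne_zero.2 one_ne_zero))

theorem tt2_sq : tt2 K * tt2 K = 1 := by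
  apply Subtype.ext
  apply Units.ext
  show ((tt2 K : GL chevF4.Idx K) : Matrix chevF4.Idx chevF4.Idx K) *
    ((tt2 K : GL chevF4.Idx K) : Matrix chevF4.Idx chevF4.Idx K) = 1
  rw [coe_tt2, Matrix.diagonal_mul_diagonal, ← Matrix.diagonal_one]
  congr 1
  funext i
  rcases i with i | i
  · simp
  · show (-1 : K) ^ _ * (-1 : K) ^ _ = 1
    rw [← mul_zpow, neg_one_mul, neg_neg, one_zpow]

theorem expo_tab : ∀ s : Fin chevF4.nroots,
    Even (expo chevF4 47 s.val - (expo chevF4 33 s.val + expo chevF4 25 s.val)) := by decide +kernel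

/-- it is the element of helper150 -/
theorem tt2_eq : tt2 K = Cfsg.Agent.H150.F43.t2 K := by
  have h1 : Cfsg.Agent.H557.SignTorus.sg K 4 Cfsg.Agent.H557.OrbF4.n_TabC3A1 =
      Pi.mulSingle 0 (-1) * Pi.mulSingle 2 (-1) := by
    funext k
    fin_cases k <;>
      simp [Cfsg.Agent.H557.SignTorus.sg, Cfsg.Agent.H557.OrbF4.n_TabC3A1, Nat.testBit]
  apply Subtype.ext
  apply Units.ext
  show ((tt2 K : GL chevF4.Idx K) : Matrix chevF4.Idx chevF4.Idx K) =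
    ((th isType_F4 (Cfsg.Agent.H557.SignTorus.sg K 4 Cfsg.Agent.H557.OrbF4.n_TabC3A1) : GL chevF4.Idx K) : Matrix chevF4.Idx chevF4.Idx K)
  have h2 : ∀ i : Fin 4, ((th isType_F4 (Pi.mulSingle i (-1 : Kˣ)) : GL chevF4.Idx K) : Matrix chevF4.Idx chevF4.Idx K) =
      chevF4.hMat K (chevF4.simple i) (-1) := by
    intro i
    have h3 : th isType_F4 (Pi.mulSingle i (-1 : Kˣ)) = hc isType_F4 i (-1 : K) := by
      rw [th_mulSingle, sl_dd]
      rfl
    rw [h3]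
    exact coe_hG _ _ _
  rw [h1, map_mul]
  show _ = ((th isType_F4 (Pi.mulSingle 0 (-1 : Kˣ)) : GL chevF4.Idx K) : Matrix chevF4.Idx chevF4.Idx K) *
    ((th isType_F4 (Pi.mulSingle 2 (-1 : Kˣ)) : GL chevF4.Idx K) : Matrix chevF4.Idx chevF4.Idx K)
  rw [h2, h2, hMat_eq_diagonal isType_F4.inList (by decide +kernel) (neg_ne_zero.2 one_ne_zero),
    hMat_eq_diagonal isType_F4.inList (by decide +kernel) (neg_ne_zero.2 one_ne_zero), coe_tt2,
    Matrix.diagonal_mul_diagonal]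
  congr 1
  funext i
  rcases i with i | i
  · simp
  · show (-1 : K) ^ expo chevF4 47 i.val = (-1 : K) ^ expo chevF4 33 i.val * (-1 : K) ^ expo chevF4 25 i.val
    rw [← zpow_add₀ (neg_ne_zero.2 one_ne_zero)]
    have h3 := expo_tab i
    have h4 : (-1 : K) ^ (expo chevF4 47 i.val - (expo chevF4 33 i.val + expo chevF4 25 i.val)) = 1 := h3.neg_one_zpow
    rw [zpow_sub₀ (neg_ne_zero.2 one_ne_zero)] at h4
    exact (div_eq_one_iff_eq (zpow_ne_zero _ (neg_ne_zero.2 one_ne_zero))).1 h4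

theorem charP_three [Finite K] (hK : Nat.card K = 3) : CharP K 3 := by
  have : Fintype K := Fintype.ofFinite K
  have : Fact (Nat.Prime 3) := ⟨Nat.prime_three⟩
  exact charP_of_card_eq_prime (p := 3) (by rw [← Nat.card_eq_fintype_card, hK])

theorem two_ne [Finite K] (hK : Nat.card K = 3) : (2 : K) ≠ 0 := by
  have := charP_three hK
  intro h
  have h1 : ((2 : ℕ) : K) = 0 := by exact_mod_cast h
  rw [CharP.cast_eq_zero_iff K 3] at h1
  omega

/-- `h_θ(-1)` commutes with `X_θ` -/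
theorem tt2_comm [Finite K] (hK : Nat.card K = 3) {w : ↥(chevF4.group K)} (hw : w ∈ XX chevF4 4 K (vec chevF4 4 47)) :
    tt2 K * w = w * tt2 K := by
  obtain ⟨c, rfl⟩ := (mem_XX isType_F4 lt47 _).1 hw
  rw [tt2_eq]
  exact (Cfsg.Agent.H150.F43.commute_t2 (two_ne hK) lt47 (by decide +kernel) c).eq

theorem tt2_mem_TT : tt2 K ∈ TT chevF4 K := by
  rw [tt2_eq]
  exact Cfsg.Agent.H557.Toral.th_mem _ _

theorem isPGroup_VV [Finite K] (hK : Nat.card K = 3) : IsPGroup 3 (VV K) := by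
  have : Fact (Nat.Prime 3) := ⟨Nat.prime_three⟩
  have := charP_three hK
  have := Cfsg.Agent.H701.F43.Cent.finW
  exact ((rgd (K := K) isType_F4 cF 3).isPGroup_Upos).to_le (VJ_le_U _)

/-- **E2** -/
theorem pr_E2' [Finite K] (hK : Nat.card K = 3) {s w : ↥(chevF4.group K)} (hs : (tt2 K)⁻¹ * s ∈ VV K) {m : ℕ}
    (hm : s ^ m = 1) (hc : m.Coprime 3) (hw : w ∈ XX chevF4 4 K (vec chevF4 4 47)) (hws : s * w = w * s) :
    Pr 6 (s * w) := by
  have : Fact (Nat.Prime 3) := ⟨Nat.prime_three⟩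
  have := charP_three hK
  refine pr_E2 hK (isPGroup_VV hK) tt2_sq tt2_mem (fun x hx => ?_) hs hm hc hw (tt2_comm hK hw) hws
  exact (Subgroup.mem_normalizer_iff.1 (Cfsg.Agent.H701.F43.Cent.TT_le_normalizer 3 tt2_mem_TT) x).1 hx

/-- **E2** for `z = x_θ(c)` -/
theorem pr_E2_z [Finite K] (hK : Nat.card K = 3) {s w : ↥(chevF4.group K)} (hs : (tt2 K)⁻¹ * s ∈ VV K) {m : ℕ}
    (hm : s ^ m = 1) (hc : m.Coprime 3) {c : K}
    (hsz : s * xc isType_F4 (vec chevF4 4 47) c = xc isType_F4 (vec chevF4 4 47) c * s)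
    (hw : w ∈ Subgroup.zpowers (xc isType_F4 (vec chevF4 4 47) c)) : Pr 6 (s * w) := by
  refine pr_E2' hK hs hm hc ?_ ?_
  · refine (Subgroup.zpowers_le.2 ?_) hw
    exact (mem_XX isType_F4 lt47 _).2 ⟨c, rfl⟩
  · have h3 : Subgroup.zpowers (xc isType_F4 (vec chevF4 4 47) c) ≤ Subgroup.centralizer {s} := by
      rw [Subgroup.zpowers_le, Subgroup.mem_centralizer_singleton_iff]
      exact hsz.symm
    exact (Subgroup.mem_centralizer_singleton_iff.1 (h3 hw)).symm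

/-- **E2** with the element of helper150 -/
theorem pr_E2_t2 [Finite K] (hK : Nat.card K = 3) {s w : ↥(chevF4.group K)}
    (hs : (Cfsg.Agent.H150.F43.t2 K)⁻¹ * s ∈ VV K) {m : ℕ}
    (hm : s ^ m = 1) (hc : m.Coprime 3) (hw : w ∈ XX chevF4 4 K (vec chevF4 4 47)) (hws : s * w = w * s) :
    Pr 6 (s * w) :=
  pr_E2' hK (by rw [tt2_eq]; exact hs) hm hc hw hws

end

end Cfsg.Agent.H874.F43
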