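import Cfsg.Agent.H98.Pw.SLThree

/-!
# `SL₄(3)`: every element with a nonzero fixed vector is a product of two elements of order 13 (helper874, for S2465)

* `sub_one_det` : `y ∈ SL₃(3)`, `y ^ 13 = 1`, `y ≠ 1`: `det (y - 1) ≠ 0`.
* `sl4_of_fix`, `sl4_of_fix'` : `M v = v` (`v M = v`), `v ≠ 0`: `M = a b`, `a ^ 13 = b ^ 13 = 1`.
-/

set_option autoImplicit false

namespace Cfsg.Agent.H874.F43

open Matrix Polynomial Cfsg.Agent.H98.Pw Cfsg.Agent.H78.Pw

/-- an element of order 13 of `SL₃(3)` has no nonzero fixed vector -/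
theorem sub_one_det {y : Matrix (Fin 3) (Fin 3) (ZMod 3)} (hd : y.det = 1) (h13 : y ^ 13 = 1) (h1 : y ≠ 1) :
    (y - 1).det ≠ 0 := by
  intro h0
  have hts : y.trace = s2 y := by
    have h2 : (y - 1).det = y.det - s2 y + y.trace - 1 := by
      simp [Matrix.det_fin_three, s2, Matrix.trace, Fin.sum_univ_three]
      ring
    rw [h0, hd] at h2
    linear_combination -h2
  have h12 : y ^ 12 = 1 := by
    have hch := ch3 y
    rw [← hts, hd, one_smul] at hch
    obtain ⟨t, ht⟩ : ∃ t, t = y.trace := ⟨_, rfl⟩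
    rw [← ht] at hch
    have h3 : ∀ t : ZMod 3, t = 0 ∨ t = 1 ∨ t = 2 := by decide
    rcases h3 t with rfl | rfl | rfl
    · refine pow_of_dvd (f := X ^ 3 - 1) ?_ ?_
      · rw [zero_smul, zero_smul] at hch
        rw [map_sub, map_pow, aeval_X, map_one, pow_succ, pow_two]
        simpa using hch
      · exact ⟨X ^ 9 + X ^ 6 + X ^ 3 + 1, by ring⟩
    · refine pow_of_dvd (f := X ^ 3 - X ^ 2 + X - 1) ?_ ?_
      · rw [one_smul, one_smul] at hch
        rw [map_sub, map_add, map_sub, map_pow, map_pow, aeval_X, map_one, pow_succ, pow_two]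
        exact hch
      · exact ⟨(X + 1) * (X ^ 8 + X ^ 4 + 1), by ring⟩
    · refine pow_of_dvd (f := X ^ 3 - 2 * X ^ 2 + 2 * X - 1) ?_ ?_
      · rw [two_smul, two_smul] at hch
        rw [map_sub, map_add, map_sub, map_mul, map_mul, map_pow, map_pow, aeval_X, map_one, pow_succ, pow_two,
          map_ofNat, two_mul, two_mul]
        exact hch
      · refine ⟨(X ^ 3 + 2 * X ^ 2 + 2 * X + 1) * (X ^ 6 + 1), ?_⟩
        ring
  apply h1
  rw [pow_succ, h12, one_mul] at h13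
  exact h13

/-- block matrices -/
def bl (w : Fin 3 → ZMod 3) (A : Matrix (Fin 3) (Fin 3) (ZMod 3)) : Matrix (Fin 4) (Fin 4) (ZMod 3) :=
  !![1, w 0, w 1, w 2; 0, A 0 0, A 0 1, A 0 2; 0, A 1 0, A 1 1, A 1 2; 0, A 2 0, A 2 1, A 2 2]

theorem bl_mul (w w' : Fin 3 → ZMod 3) (A B : Matrix (Fin 3) (Fin 3) (ZMod 3)) :
    bl w A * bl w' B = bl (w' + w ᵥ* B) (A * B) := by
  ext i j
  fin_cases i <;> fin_cases j <;>
    simp [bl, Matrix.mul_apply, Fin.sum_univ_four, Fin.sum_univ_three, Matrix.vecMul, dotProduct] <;> ring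

theorem bl_one : bl 0 1 = 1 := by decide

theorem bl_pow (A : Matrix (Fin 3) (Fin 3) (ZMod 3)) (n : ℕ) : bl 0 A ^ n = bl 0 (A ^ n) := by
  induction n with
  | zero => rw [pow_zero, pow_zero, bl_one]
  | succ n ih => rw [pow_succ, pow_succ, ih, bl_mul, Matrix.zero_vecMul, add_zero]

theorem bl_det (w : Fin 3 → ZMod 3) (A : Matrix (Fin 3) (Fin 3) (ZMod 3)) : (bl w A).det = A.det := by
  rw [Matrix.det_succ_column_zero, Fin.sum_univ_four]
  simp [bl, Matrix.submatrix_apply, Fin.succAbove, Matrix.det_fin_three]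

/-- product of two matrices of 13th power 1 -/
def T (M : Matrix (Fin 4) (Fin 4) (ZMod 3)) : Prop :=
  ∃ a b : Matrix (Fin 4) (Fin 4) (ZMod 3), M = a * b ∧ a ^ 13 = 1 ∧ b ^ 13 = 1 ∧ a.det = 1 ∧ b.det = 1

theorem T.conj {M g g' : Matrix (Fin 4) (Fin 4) (ZMod 3)} (h : T M) (hg : g' * g = 1) : T (g * M * g') := by
  obtain ⟨a, b, rfl, ha, hb, hda, hdb⟩ := h
  have hg' : g * g' = 1 := mul_eq_one_comm.1 hg
  have hp : ∀ (c : Matrix (Fin 4) (Fin 4) (ZMod 3)) (n : ℕ), (g * c * g') ^ n = g * c ^ n * g' := by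
    intro c n
    induction n with
    | zero => rw [pow_zero, pow_zero, mul_one, hg']
    | succ n ih =>
      rw [pow_succ, ih, pow_succ]
      calc g * c ^ n * g' * (g * c * g') = g * c ^ n * (g' * g) * c * g' := by simp only [mul_assoc]
        _ = _ := by rw [hg]; simp only [mul_assoc, one_mul]
  have hdg : g.det * g'.det = 1 := by rw [← det_mul, hg', det_one]
  have hdet : ∀ c : Matrix (Fin 4) (Fin 4) (ZMod 3), c.det = 1 → (g * c * g').det = 1 := by
    intro c hc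
    rw [det_mul, det_mul, hc, mul_one, hdg]
  refine ⟨g * a * g', g * b * g', ?_, ?_, ?_, hdet a hda, hdet b hdb⟩
  · calc g * (a * b) * g' = g * a * 1 * b * g' := by simp only [mul_assoc, one_mul]
      _ = _ := by rw [← hg]; simp only [mul_assoc]
  · rw [hp, ha, mul_one, hg']
  · rw [hp, hb, mul_one, hg']

theorem T.transpose {M : Matrix (Fin 4) (Fin 4) (ZMod 3)} (h : T Mᵀ) : T M := by
  obtain ⟨a, b, e, ha, hb, hda, hdb⟩ := h
  refine ⟨bᵀ, aᵀ, ?_, ?_, ?_, by rw [det_transpose, hdb], by rw [det_transpose, hda]⟩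
  · rw [← Matrix.transpose_mul, ← e, Matrix.transpose_transpose]
  · rw [← Matrix.transpose_pow, hb, Matrix.transpose_one]
  · rw [← Matrix.transpose_pow, ha, Matrix.transpose_one]

theorem T_bl (w : Fin 3 → ZMod 3) {A : Matrix (Fin 3) (Fin 3) (ZMod 3)} (hA : A.det = 1) : T (bl w A) := by
  obtain ⟨x, y, rfl, hx, hy, hxd, hyd, -, hy1⟩ := mat_three A hA
  have hu := sub_one_det hyd hy hy1
  have hu' : IsUnit (y - 1).det := isUnit_iff_ne_zero.2 hu
  obtain ⟨u, hu2⟩ : ∃ u : Fin 3 → ZMod 3, u ᵥ* (y - 1) = w := by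
    refine ⟨w ᵥ* (y - 1)⁻¹, ?_⟩
    rw [Matrix.vecMul_vecMul, Matrix.nonsing_inv_mul _ hu', Matrix.vecMul_one]
  have e1 : bl w y = bl u 1 * bl 0 y * bl (-u) 1 := by
    rw [bl_mul, bl_mul, one_mul, mul_one, zero_add, Matrix.vecMul_one, ← hu2, Matrix.vecMul_sub, Matrix.vecMul_one,
      sub_eq_neg_add]
  have e2 : bl (-u) 1 * bl u 1 = 1 := by
    rw [bl_mul, mul_one, Matrix.vecMul_one, add_neg_cancel, bl_one]
  have e3 : bl u 1 * bl (-u) 1 = 1 := mul_eq_one_comm.1 e2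
  refine ⟨bl 0 x, bl w y, ?_, ?_, ?_, ?_, ?_⟩
  · rw [bl_mul, Matrix.zero_vecMul, add_zero]
  · rw [bl_pow, hx, bl_one]
  · have hp : ∀ n : ℕ, (bl u 1 * bl 0 y * bl (-u) 1) ^ n = bl u 1 * bl 0 y ^ n * bl (-u) 1 := by
      intro n
      induction n with
      | zero => rw [pow_zero, pow_zero, mul_one, e3]
      | succ n ih =>
        rw [pow_succ, ih, pow_succ]
        calc bl u 1 * bl 0 y ^ n * bl (-u) 1 * (bl u 1 * bl 0 y * bl (-u) 1)
            = bl u 1 * bl 0 y ^ n * (bl (-u) 1 * bl u 1) * bl 0 y * bl (-u) 1 := by simp only [mul_assoc]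
          _ = _ := by rw [e2]; simp only [mul_assoc, one_mul]
    rw [e1, hp, bl_pow, hy, bl_one, mul_one, e3]
  · rw [bl_det, hxd]
  · rw [bl_det, hyd]

/-- **fixed vector** -/
theorem T_of_fix {M : Matrix (Fin 4) (Fin 4) (ZMod 3)} (hM : M.det = 1) {v : Fin 4 → ZMod 3} (hv : v ≠ 0)
    (h : M *ᵥ v = v) : T M := by
  classical
  obtain ⟨k, hk⟩ : ∃ k, v k ≠ 0 := by
    by_contra h2
    push Not at h2
    exact hv (funext h2)
  -- `g e₀ = v`
  let p : Matrix (Fin 4) (Fin 4) (ZMod 3) := Matrix.updateCol 1 k v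
  let s : Matrix (Fin 4) (Fin 4) (ZMod 3) := (Equiv.swap 0 k).toPEquiv.toMatrix
  have hp : p.det ≠ 0 := by
    have h3 : p.det = v k := by
      have h4 : Matrix.cramer (1 : Matrix (Fin 4) (Fin 4) (ZMod 3)) v k = v k := by rw [Matrix.cramer_one]; rfl
      rw [← h4, Matrix.cramer_apply]
    rwa [h3]
  have hs : s * s = 1 := by
    show (Equiv.swap 0 k).toPEquiv.toMatrix * (Equiv.swap 0 k).toPEquiv.toMatrix = 1
    rw [← PEquiv.toMatrix_trans, ← Equiv.toPEquiv_trans]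
    have h5 : (Equiv.swap 0 k).trans (Equiv.swap 0 k) = Equiv.refl (Fin 4) := by
      ext x
      simp
    rw [h5]
    simp
  have hs0 : s *ᵥ Pi.single 0 1 = Pi.single k 1 := by
    ext i
    rw [Matrix.mulVec_single_one]
    simp [s, Matrix.col_apply, PEquiv.toMatrix_apply, Pi.single_apply, Equiv.swap_apply_eq_iff]
  have hpk : p *ᵥ Pi.single k 1 = v := by
    rw [Matrix.mulVec_single_one]
    ext i
    simp [p, Matrix.col_apply]
  have hpu : IsUnit p.det := isUnit_iff_ne_zero.2 hp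
  obtain ⟨g, hg⟩ : ∃ g, g = p * s := ⟨_, rfl⟩
  obtain ⟨g', hg'⟩ : ∃ g', g' = s * p⁻¹ := ⟨_, rfl⟩
  have h1 : g * g' = 1 := by
    rw [hg, hg']
    calc p * s * (s * p⁻¹) = p * (s * s) * p⁻¹ := by simp only [mul_assoc]
      _ = 1 := by rw [hs, mul_one, Matrix.mul_nonsing_inv _ hpu]
  have h1' : g' * g = 1 := mul_eq_one_comm.1 h1
  have hge : g *ᵥ Pi.single 0 1 = v := by
    rw [hg, ← Matrix.mulVec_mulVec, hs0, hpk]
  have hge' : g' *ᵥ v = Pi.single 0 1 := by
    rw [← hge, Matrix.mulVec_mulVec, h1', Matrix.one_mulVec]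
  obtain ⟨N, hN⟩ : ∃ N, N = g' * M * g := ⟨_, rfl⟩
  have hNe : N *ᵥ Pi.single 0 1 = Pi.single 0 1 := by
    rw [hN, mul_assoc, ← Matrix.mulVec_mulVec, ← Matrix.mulVec_mulVec, hge, h, hge']
  have hcol : ∀ i, N i 0 = (Pi.single 0 1 : Fin 4 → ZMod 3) i := by
    intro i
    rw [← hNe, Matrix.mulVec_single_one, Matrix.col_apply]
  have hNb : N = bl (fun j => N 0 j.succ) (N.submatrix Fin.succ Fin.succ) := by
    ext i j
    fin_cases j
    · have := hcol i
      fin_cases i <;> simpa [bl] using this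
    all_goals fin_cases i <;> rfl
  have hNd : N.det = 1 := by
    rw [hN, det_mul, det_mul, hM, mul_one, ← det_mul, h1', det_one]
  have hT : T N := by
    rw [hNb]
    refine T_bl _ ?_
    rw [hNb, bl_det] at hNd
    exact hNd
  have hMN : M = g * N * g' := by
    rw [hN]
    calc M = (g * g') * M * (g * g') := by rw [h1, one_mul, mul_one]
      _ = _ := by simp only [mul_assoc]
  rw [hMN]
  exact hT.conj h1'

/-- **`SL₄(3)`: elements with a nonzero fixed vector** -/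
theorem sl4_of_fix {F : Type*} [Field F] [Finite F] (hF : Nat.card F = 3) (M : SpecialLinearGroup (Fin 4) F)
    {v : Fin 4 → F} (hv : v ≠ 0) (h : M.1 *ᵥ v = v ∨ v ᵥ* M.1 = v) :
    ∃ a b : SpecialLinearGroup (Fin 4) F, M = a * b ∧ a ^ 13 = 1 ∧ b ^ 13 = 1 := by
  have : Fintype F := Fintype.ofFinite F
  have : Fact (Nat.Prime 3) := ⟨Nat.prime_three⟩
  let e : ZMod 3 ≃+* F := ZMod.ringEquivOfPrime F Nat.prime_three (by rw [← Nat.card_eq_fintype_card, hF])
  let f := SpecialLinearGroup.map (n := Fin 4) (e : ZMod 3 →+* F)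
  let g := SpecialLinearGroup.map (n := Fin 4) (e.symm : F →+* ZMod 3)
  have hfg : ∀ B, f (g B) = B := by
    intro B
    ext i j
    simp [f, g]
  have hv' : (fun i => e.symm (v i)) ≠ 0 := by
    intro h2
    apply hv
    ext i
    have := congrFun h2 i
    simpa using this
  have hT : T (g M).1 := by
    rcases h with h | h
    · refine T_of_fix (g M).2 hv' ?_
      ext i
      have h3 := congrArg e.symm (congrFun h i)
      rw [Matrix.mulVec, dotProduct, map_sum] at h3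
      rw [Matrix.mulVec, dotProduct, ← h3]
      refine Finset.sum_congr rfl fun j _ => ?_
      rw [map_mul]
      rfl
    · refine T.transpose (T_of_fix (by rw [det_transpose]; exact (g M).2) hv' ?_)
      rw [Matrix.mulVec_transpose]
      ext i
      have h3 := congrArg e.symm (congrFun h i)
      rw [Matrix.vecMul, dotProduct, map_sum] at h3
      rw [Matrix.vecMul, dotProduct, ← h3]
      refine Finset.sum_congr rfl fun j _ => ?_
      rw [map_mul]
      rfl
  obtain ⟨a, b, hab, ha, hb, hda, hdb⟩ := hT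
  obtain ⟨a', ha'⟩ : ∃ a' : SpecialLinearGroup (Fin 4) (ZMod 3), a'.1 = a := ⟨⟨a, hda⟩, rfl⟩
  obtain ⟨b', hb'⟩ : ∃ b' : SpecialLinearGroup (Fin 4) (ZMod 3), b'.1 = b := ⟨⟨b, hdb⟩, rfl⟩
  subst ha' hb'
  refine ⟨f a', f b', ?_, ?_, ?_⟩
  · rw [← map_mul, ← hfg M]
    congr 1
    exact Subtype.ext hab
  · rw [← map_pow, ← map_one f]
    congr 1
    exact Subtype.ext ((Matrix.SpecialLinearGroup.coe_pow _ 13).trans (ha.trans Matrix.SpecialLinearGroup.coe_one.symm))
  · rw [← map_pow, ← map_one f]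
    congr 1
    exact Subtype.ext ((Matrix.SpecialLinearGroup.coe_pow _ 13).trans (hb.trans Matrix.SpecialLinearGroup.coe_one.symm))

theorem pr_of_thirteen {G : Type*} [Group G] {g : G} (h : ∃ a b : G, g = a * b ∧ a ^ 13 = 1 ∧ b ^ 13 = 1) :
    Pr 6 g := by
  obtain ⟨a, b, e, ha, hb⟩ := h
  exact ⟨a, b, e, Nat.Coprime.of_dvd_left (orderOf_dvd_of_pow_eq_one ha) (by decide),
    Nat.Coprime.of_dvd_left (orderOf_dvd_of_pow_eq_one hb) (by decide)⟩

end Cfsg.Agent.H874.F43
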